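import Cfsg.Agent.H641.Gow.Rgd
import Cfsg.Agent.H246.Dl.KFix
import Cfsg.Agent.Characters.Values

/-!
# Harish-Chandra series exhaust the irreducible characters (helper45, S4884)

`exists_series` : every irreducible character of a finite group with a root group datum is a constituent of `HC_J α` for a
set of nodes `J` and an irreducible cuspidal character `α` of `L_J`.
-/

set_option autoImplicit false
set_option linter.unusedSectionVars false

open scoped ComplexConjugate Pointwise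
open Cfsg

namespace Cfsg.Agent.H45.GG

open Cfsg.Agent.OddOrderCharacters.Clifford Cfsg.Agent.Characters Cfsg.Agent.H53.HC Cfsg.Agent.H641.Gow

open CoxeterSystem Cfsg.Agent.ChevalleyStructure.CoxeterGeom Cfsg.Agent.Tits.Roots Cfsg.Agent.Tits.Core
  Cfsg.Agent.Tits.Exchange Cfsg.Agent.Nodes.Reps Cfsg.Agent.Nodes.BNOf Cfsg.Agent.Nodes.StabComb
  Cfsg.Agent.Nodes.Bruhat Cfsg.Agent.Nodes.OppDec Cfsg.Agent.Nodes.LeviDec
open Cfsg.Agent.H246.Dl (sum_hom_ne_zero const_of_sum_ne_zero classInner_symm_ne)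

/-- elements in the kernel of a character -/
theorem apply_mul_ker {L : Type*} [Group L] {χ : L → ℂ} (hχ : IsCharacter L χ) {k : L}
    (hk : χ k = χ 1) [Finite L] (x : L) : χ (x * k) = χ x := by
  have := Fintype.ofFinite L
  obtain ⟨n, ρ, rfl⟩ := hχ
  have h1 : ρ k = LinearMap.id := by
    rw [← Cfsg.Agent.Characters.Values.character_eq_finrank_iff, hk]
    simp
  have h2 : ρ (x * k) = ρ x := by
    rw [map_mul, h1]
    rfl
  change LinearMap.trace ℂ _ (ρ (x * k)) = LinearMap.trace ℂ _ (ρ x)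
  rw [h2]

/-- sums along a surjective homomorphism -/
theorem sum_comp_surj {A B : Type*} [Group A] [Group B] [Fintype A] [Fintype B] (f : A →* B)
    (hf : Function.Surjective f) (F : B → ℂ) : ∃ c : ℂ, c ≠ 0 ∧ ∑ a, F (f a) = c * ∑ b, F b := by
  classical
  have h1 : ∀ b : B, (Finset.univ.filter fun a => f a = b).card = (Finset.univ.filter fun a => f a = 1).card :=
    fun b => MonoidHom.card_fiber_eq_of_mem_range f (hf b) ⟨1, map_one f⟩
  refine ⟨((Finset.univ.filter fun a => f a = 1).card : ℂ), ?_, ?_⟩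
  · have : 0 < (Finset.univ.filter fun a => f a = 1).card :=
      Finset.card_pos.2 ⟨1, Finset.mem_filter.2 ⟨Finset.mem_univ _, map_one f⟩⟩
    exact_mod_cast this.ne'
  · rw [← Finset.sum_fiberwise_of_maps_to (t := Finset.univ) (g := f) (fun _ _ => Finset.mem_univ _), Finset.mul_sum]
    refine Finset.sum_congr rfl fun b _ => ?_
    have h2 : ∀ a ∈ Finset.univ.filter (fun a => f a = b), F (f a) = F b := by
      intro a ha
      rw [(Finset.mem_filter.1 ha).2]
    rw [Finset.sum_congr rfl h2, Finset.sum_const, h1 b, nsmul_eq_mul]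

variable {I W Y : Type*} [Fintype I] [DecidableEq I] [Group W] [Group Y] {M : CoxeterMatrix I}
  {cs : CoxeterSystem M W} {A : I → I → ℤ} {h : IsCartan M A} {p : ℕ} {T : Subgroup Y} {n : I → Y}
  {X : (I → ℤ) → Subgroup Y} (R : RGD cs h p T n X)

include R

/-- the projection of `V_(J - i)` -/
theorem projL_VJ [Finite W] {J : Set I} {i : I} (hi : i ∈ J) {v : Y} (hv : v ∈ VJ cs h X (J \ {i})) :
    ∃ hP : v ∈ PJ cs h T X J, ((projL R J ⟨v, hP⟩ : LJ cs h T X J) : Y) ∈ rad cs h X J i := by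
  have hle : VJ cs h X (J \ {i}) ≤
      (((rad cs h X J i).subgroupOf (LJ cs h T X J)).comap (projL R J)).map (PJ cs h T X J).subtype := by
    refine RGD.Sup_le fun x hx u hu => ?_
    obtain ⟨hxr, hx0, k, hk, hk0⟩ := hx
    have huB : u ∈ PJ cs h T X J := B_le_PJ (RGD.U_le_B (RGD.le_Sup (S := RGD.Pos cs h) ⟨hxr, hx0⟩ hu))
    refine ⟨⟨u, huB⟩, ?_, rfl⟩
    change ((projL R J ⟨u, huB⟩ : LJ cs h T X J) : Y) ∈ rad cs h X J i
    rcases mem_PosJ_or_NotJ J hxr hx0 with h1 | h1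
    · have hki : k = i := by
        by_contra hne
        have hkJ : k ∉ J := fun hkJ => hk ⟨hkJ, hne⟩
        rw [h1.2.2 k hkJ] at hk0
        exact lt_irrefl _ hk0
      subst hki
      have hur : u ∈ rad cs h X J k := RGD.le_Sup (S := PosRad cs h J k) ⟨h1, hk0⟩ hu
      have h2 : projL R J ⟨u, huB⟩ = ⟨u, rad_le_LJ J k hur⟩ := projL_L R (rad_le_LJ J k hur)
      rw [h2]
      exact hur
    · have huV : u ∈ VJ cs h X J := RGD.le_Sup (S := NotJ cs h J) h1 hu
      have h2 : projL R J ⟨u, huB⟩ = 1 := projL_V R huV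
      rw [h2]
      exact one_mem _
  obtain ⟨q, hq, hqv⟩ := hle hv
  have e : (q : Y) = v := hqv
  subst e
  exact ⟨q.2, hq⟩

theorem rad_le_VJ {J : Set I} {i : I} (hi : i ∈ J) : rad cs h X J i ≤ VJ cs h X (J \ {i}) :=
  RGD.Sup_mono fun _ hx => ⟨hx.1.1, hx.1.2.1, i, fun h => h.2 rfl, hx.2⟩

/-- **Every irreducible character lies in a Harish-Chandra series.** -/
theorem exists_series [Finite W] [Fintype Y] {χ : Y → ℂ} (hχ : IsIrrCharacter Y χ) :
    ∃ (J : Set I) (α : ↥(LJ cs h T X J) → ℂ), IsIrrCharacter _ α ∧ CuspL cs h T X J α ∧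
      classInner (HC R J α) χ ≠ 0 := by
  classical
  let _ : ∀ J : Set I, Fintype (VJ cs h X J) := fun J => Fintype.ofFinite _
  have hex : ∃ k : ℕ, ∃ J : Set I, J.ncard = k ∧ ∑ v : VJ cs h X J, χ v ≠ 0 := by
    refine ⟨_, Set.univ, rfl, ?_⟩
    have h1 : VJ cs h X Set.univ = ⊥ := by
      rw [eq_bot_iff]
      refine RGD.Sup_le fun x hx => ?_
      obtain ⟨-, -, k, hk, -⟩ := hx
      exact absurd (Set.mem_univ k) hk
    have h2 : ∀ v : VJ cs h X Set.univ, χ v = χ 1 := by
      rintro ⟨v, hv⟩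
      rw [h1, Subgroup.mem_bot] at hv
      subst hv
      rfl
    rw [Finset.sum_congr rfl fun v _ => h2 v, Finset.sum_const, Finset.card_univ, nsmul_eq_mul]
    refine mul_ne_zero ?_ (Core.isIrr_apply_one_ne_zero hχ)
    have : 0 < Fintype.card (VJ cs h X Set.univ) := Fintype.card_pos
    exact_mod_cast this.ne'
  obtain ⟨J, hJ, hJ0⟩ := Nat.find_spec hex
  have hmin : ∀ K : Set I, K.ncard < J.ncard → ∑ v : VJ cs h X K, χ v = 0 := by
    intro K hK
    by_contra hne
    rw [hJ] at hK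
    exact Nat.find_min hex hK ⟨K, rfl, hne⟩
  have : Fintype (PJ cs h T X J) := Fintype.ofFinite _
  have : Fintype (LJ cs h T X J) := Fintype.ofFinite _
  have : Finite (IrrCharacter (PJ cs h T X J)) := Core.finite_irr
  have : Fintype (IrrCharacter (PJ cs h T X J)) := Fintype.ofFinite _
  have hres : IsCharacter (PJ cs h T X J) (χ ∘ (PJ cs h T X J).subtype) :=
    Core.isCharacter_comp _ (Core.isIrr_isCharacter hχ)
  obtain ⟨m, hm⟩ := Core.exists_nat_comb hres
  have hVP : VJ cs h X J ≤ PJ cs h T X J := VJ_le_PJ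
  have hNor : ((VJ cs h X J).subgroupOf (PJ cs h T X J)).Normal :=
    (Subgroup.normal_subgroupOf_iff_le_normalizer hVP).2 (PJ_le_normalizer_VJ R J)
  have : Fintype ((VJ cs h X J).subgroupOf (PJ cs h T X J)) := Fintype.ofFinite _
  have h1 : (∑ v : VJ cs h X J, χ v : ℂ) =
      ∑ ψ : IrrCharacter (PJ cs h T X J), (m ψ : ℂ) * ∑ v : VJ cs h X J, (ψ : PJ cs h T X J → ℂ) ⟨v, hVP v.2⟩ := by
    symm
    simp only [Finset.mul_sum]
    rw [Finset.sum_comm]
    refine Finset.sum_congr rfl fun v _ => ?_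
    have h2 := congrFun hm ⟨v, hVP v.2⟩
    simp only [Finset.sum_apply, nsmul_eq_mul] at h2
    exact h2.symm
  rw [h1] at hJ0
  obtain ⟨ψ, -, hψ⟩ := Finset.exists_ne_zero_of_sum_ne_zero hJ0
  have hm0 : (m ψ : ℂ) ≠ 0 := left_ne_zero_of_mul hψ
  have hs0 := right_ne_zero_of_mul hψ
  have hV : ∀ (v : Y) (hv : v ∈ VJ cs h X J), (ψ : PJ cs h T X J → ℂ) ⟨v, VJ_le_PJ hv⟩ =
      (ψ : PJ cs h T X J → ℂ) 1 := fun v hv =>
    const_of_sum_ne_zero ((VJ cs h X J).subgroupOf (PJ cs h T X J)) ψ.2 (by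
      intro h0
      apply hs0
      rw [← h0]
      exact (Fintype.sum_equiv (Subgroup.subgroupOfEquivOfLe hVP).symm.toEquiv _ _ fun v => rfl)) _
      (by rw [Subgroup.mem_subgroupOf]; exact hv)
  have hψχ : classInner (χ ∘ (PJ cs h T X J).subtype) (ψ : PJ cs h T X J → ℂ) ≠ 0 := by
    rw [hm, Core.classInner_sum_nsmul_irr]
    exact hm0
  -- the character of the Levi subgroup
  let α : LJ cs h T X J → ℂ := (ψ : PJ cs h T X J → ℂ) ∘ Subgroup.inclusion LJ_le_PJ
  have hαc : IsCharacter _ α := Core.isCharacter_comp _ (Core.isIrr_isCharacter ψ.2)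
  have hαψ : α ∘ projL R J = (ψ : PJ cs h T X J → ℂ) := by
    funext q
    obtain ⟨l, hl, v, hv, hq⟩ := (mem_PJ R).1 q.2
    have e1 : q = ⟨l, LJ_le_PJ hl⟩ * ⟨v, VJ_le_PJ hv⟩ := Subtype.ext hq
    rw [e1, apply_mul_ker (Core.isIrr_isCharacter ψ.2) (hV v hv), Function.comp_apply, map_mul, projL_L R hl,
      projL_V R hv, mul_one]
    rfl
  have hα : IsIrrCharacter _ α := isIrr_of_comp (projL R J) hαc (by rw [hαψ]; exact ψ.2)
  refine ⟨J, α, hα, ?_, ?_⟩
  · intro i hi hf
    by_contra hne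
    have hlt : (J \ {i}).ncard < J.ncard := Set.ncard_lt_ncard ⟨Set.diff_subset, fun hle => (hle hi).2 rfl⟩
    have hP : VJ cs h X (J \ {i}) ≤ PJ cs h T X J := fun v hv => (projL_VJ R hi hv).choose
    let π : VJ cs h X (J \ {i}) →* rad cs h X J i :=
      { toFun := fun v => ⟨projL R J ⟨v, hP v.2⟩, (projL_VJ R hi v.2).choose_spec⟩
        map_one' := by
          apply Subtype.ext
          change ((projL R J ⟨1, _⟩ : LJ cs h T X J) : Y) = 1
          have : (⟨1, hP (one_mem _)⟩ : PJ cs h T X J) = 1 := rfl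
          rw [this, map_one]
          rfl
        map_mul' := fun a b => by
          apply Subtype.ext
          change ((projL R J (⟨a, hP a.2⟩ * ⟨b, hP b.2⟩) : LJ cs h T X J) : Y) = _
          rw [map_mul]
          rfl }
    have hπ : Function.Surjective π := by
      intro u
      refine ⟨⟨u, rad_le_VJ R hi u.2⟩, Subtype.ext ?_⟩
      change ((projL R J ⟨u, _⟩ : LJ cs h T X J) : Y) = u
      rw [projL_L R (rad_le_LJ J i u.2)]
    obtain ⟨c, hc, hsum⟩ := sum_comp_surj π hπ (fun u => α ⟨u, rad_le_LJ J i u.2⟩)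
    have h2 : ∑ v : VJ cs h X (J \ {i}), (ψ : PJ cs h T X J → ℂ) (Subgroup.inclusion hP v) ≠ 0 := by
      have h3 : ∀ v : VJ cs h X (J \ {i}), (ψ : PJ cs h T X J → ℂ) (Subgroup.inclusion hP v) =
          (fun u : rad cs h X J i => α ⟨u, rad_le_LJ J i u.2⟩) (π v) := by
        intro v
        rw [← hαψ]
        rfl
      rw [Finset.sum_congr rfl fun v _ => h3 v, hsum]
      exact mul_ne_zero hc hne
    exact sum_hom_ne_zero (Subgroup.inclusion hP) hres ψ.2 hψχ h2 (hmin _ hlt)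
  · unfold HC
    rw [hαψ, classInner_indFun (PJ cs h T X J) _ _ (Core.isIrr_isClassFunction hχ)]
    exact classInner_symm_ne hψχ

end Cfsg.Agent.H45.GG
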