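import Cfsg.Agent.H641.Gow.Mackey

/-!
# Mackey's formula for two subgroups, on representatives of the double cosets (helper45, S4884)

`classInner_ind_eq_sum` : `H, K ≤ G`, `r i` representatives of different `(H, K)` double cosets such that the Mackey term of
every `x` outside `⋃ H (r i) K` vanishes: then `[Ind_H α, Ind_K β]` is the sum over `i` of
`|H ∩ (r i) K (r i)⁻¹|⁻¹ * tw (r i)`.
-/

set_option autoImplicit false
set_option linter.unusedSectionVars false

open scoped ComplexConjugate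
open Cfsg

namespace Cfsg.Agent.H45.GG

open Cfsg.Agent.OddOrderCharacters.Clifford Cfsg.Agent.Characters

variable {G : Type*} [Group G]

/-- the Mackey term -/
noncomputable def tw (H K : Subgroup G) [Fintype H] (α : H → ℂ) (β : K → ℂ) (x : G) : ℂ :=
  ∑ t : H, α t * conj (extendByZero K β (x⁻¹ * t * x))

theorem tw_def (H K : Subgroup G) [Fintype H] (α : H → ℂ) (β : K → ℂ) (x : G) :
    tw H K α β x = ∑ t : H, α t * conj (extendByZero K β (x⁻¹ * t * x)) := rfl

theorem classInner_ind [Fintype G] (H K : Subgroup G) [Fintype H] [Fintype K] (α : H → ℂ) (β : K → ℂ) :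
    classInner (indFun H α) (indFun K β) = (Nat.card H : ℂ)⁻¹ * ((Nat.card K : ℂ)⁻¹ * ∑ x : G, tw H K α β x) := by
  rw [classInner_indFun H α _ (isClassFunction_indFun K β), classInner_apply]
  congr 1
  simp only [tw_def]
  rw [Finset.sum_comm, Finset.mul_sum]
  refine Finset.sum_congr rfl fun t _ => ?_
  rw [indFun_apply, map_mul, map_sum, map_inv₀, Complex.conj_natCast, ← Finset.mul_sum]
  ring

/-- `H ∩ x K x⁻¹`, as a subgroup of `H` -/
def ds (H K : Subgroup G) (x : G) : Subgroup H :=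
  K.comap ((MulAut.conj x⁻¹).toMonoidHom.comp H.subtype)

theorem mem_ds (H K : Subgroup G) (x : G) (t : H) : t ∈ ds H K x ↔ x⁻¹ * (t : G) * x ∈ K := by
  unfold ds
  rw [Subgroup.mem_comap]
  simp

/-- conjugation by `x⁻¹` -/
def dh (H K : Subgroup G) (x : G) : ds H K x →* K where
  toFun d := ⟨x⁻¹ * ((d : H) : G) * x, (mem_ds H K x d).1 d.2⟩
  map_one' := by
    apply Subtype.ext
    simp
  map_mul' a b := by
    apply Subtype.ext
    simp [mul_assoc]

theorem tw_mul [Finite G] (H K : Subgroup G) [Fintype H] {α : H → ℂ} {β : K → ℂ} (hα : IsClassFunction H α)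
    (hβ : IsClassFunction K β) {a b : G} (ha : a ∈ H) (hb : b ∈ K) (y : G) :
    tw H K α β (a * y * b) = tw H K α β y := by
  classical
  rw [tw_def, tw_def]
  refine Fintype.sum_equiv (MulAut.conj (⟨a, ha⟩ : H)⁻¹).toEquiv _ _ fun t => ?_
  have e1 : α ((MulAut.conj (⟨a, ha⟩ : H)⁻¹).toEquiv t) = α t := by
    exact hα t (⟨a, ha⟩ : H)⁻¹
  have e2 : ((((MulAut.conj (⟨a, ha⟩ : H)⁻¹).toEquiv t : H)) : G) = a⁻¹ * t * a := by
    simp [MulAut.conj_apply]
  rw [e1, e2]
  congr 2
  have e3 : (a * y * b)⁻¹ * (t : G) * (a * y * b) = b⁻¹ * (y⁻¹ * (a⁻¹ * t * a) * y) * b := by group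
  rw [e3, H53.HC.ext_conj hβ hb]

/-- the double coset -/
def DK (H K : Subgroup G) (y x : G) : Prop := ∃ a ∈ H, ∃ b ∈ K, x = a * y * b

theorem card_fiber [Fintype G] (H K : Subgroup G) [Fintype H] [Fintype K] (y x : G) (hx : DK H K y x)
    [DecidablePred fun p : H × K => (p.1 : G) * y * p.2 = x] [Fintype (ds H K y)] :
    (Finset.univ.filter fun p : H × K => (p.1 : G) * y * p.2 = x).card = Fintype.card (ds H K y) := by
  classical
  obtain ⟨a, ha, b, hb, rfl⟩ := hx
  rw [← Finset.card_univ]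
  symm
  refine Finset.card_bij
    (fun d _ => ((⟨a, ha⟩ : H) * (d : H),
      (⟨y⁻¹ * ((d : H) : G)⁻¹ * y * b, by
        have h1 := inv_mem ((mem_ds H K y d).1 d.2)
        have h2 : (y⁻¹ * ((d : H) : G) * y)⁻¹ = y⁻¹ * ((d : H) : G)⁻¹ * y := by group
        rw [h2] at h1
        exact mul_mem h1 hb⟩ : K))) ?_ ?_ ?_
  · intro d _
    rw [Finset.mem_filter]
    refine ⟨Finset.mem_univ _, ?_⟩
    simp only [Subgroup.coe_mul]
    group
  · intro d _ e _ hde
    have h1 := congrArg Prod.fst hde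
    exact Subtype.ext (mul_left_cancel h1)
  · rintro ⟨c, e⟩ hce
    rw [Finset.mem_filter] at hce
    have h1 : (c : G) * y * e = a * y * b := hce.2
    have h2 : y⁻¹ * (a⁻¹ * c) * y = b * (e : G)⁻¹ := by
      have : (c : G) = a * y * b * (e : G)⁻¹ * y⁻¹ := by rw [← h1]; group
      rw [this]; group
    have h3 : (⟨a, ha⟩ : H)⁻¹ * c ∈ ds H K y := by
      rw [mem_ds]
      have : y⁻¹ * (((⟨a, ha⟩ : H)⁻¹ * c : H) : G) * y = b * (e : G)⁻¹ := h2
      rw [this]
      exact mul_mem hb (inv_mem e.2)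
    refine ⟨⟨_, h3⟩, Finset.mem_univ _, ?_⟩
    apply Prod.ext
    · apply Subtype.ext
      simp
    · apply Subtype.ext
      change y⁻¹ * (((⟨a, ha⟩ : H)⁻¹ * c : H) : G)⁻¹ * y * b = e
      have e1 : y⁻¹ * (((⟨a, ha⟩ : H)⁻¹ * c : H) : G)⁻¹ * y = (y⁻¹ * (a⁻¹ * c) * y)⁻¹ := by
        have : (((⟨a, ha⟩ : H)⁻¹ * c : H) : G) = a⁻¹ * c := rfl
        rw [this]; group
      rw [e1, h2]
      group

/-- The sum of a function which is constant on the double coset of `y`. -/
theorem sum_double_coset [Fintype G] (H K : Subgroup G) [Fintype H] [Fintype K] (y : G) (F : G → ℂ)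
    (hF : ∀ x, DK H K y x → F x = F y) [DecidablePred (DK H K y)] [Fintype (ds H K y)] :
    ∑ x ∈ Finset.univ.filter (DK H K y), F x =
      (Nat.card H : ℂ) * (Nat.card K : ℂ) * ((Fintype.card (ds H K y) : ℂ)⁻¹ * F y) := by
  classical
  have hd : (Fintype.card (ds H K y) : ℂ) ≠ 0 := by
    have : 0 < Fintype.card (ds H K y) := Fintype.card_pos
    exact_mod_cast this.ne'
  have h1 : ∑ p : H × K, F ((p.1 : G) * y * p.2) = (Nat.card H : ℂ) * (Nat.card K : ℂ) * F y := by
    have : ∀ p : H × K, F ((p.1 : G) * y * p.2) = F y := fun p => hF _ ⟨p.1, p.1.2, p.2, p.2.2, rfl⟩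
    simp only [this]
    rw [Finset.sum_const, Finset.card_univ, Fintype.card_prod, nsmul_eq_mul, ← Nat.card_eq_fintype_card,
      ← Nat.card_eq_fintype_card]
    push_cast
    ring
  have h2 : ∑ p : H × K, F ((p.1 : G) * y * p.2) =
      ∑ x ∈ Finset.univ.filter (DK H K y), (Fintype.card (ds H K y) : ℂ) * F x := by
    have h3 : ∀ p ∈ (Finset.univ : Finset (H × K)), (p.1 : G) * y * p.2 ∈ Finset.univ.filter (DK H K y) :=
      fun p _ => by
        rw [Finset.mem_filter]
        exact ⟨Finset.mem_univ _, p.1, p.1.2, p.2, p.2.2, rfl⟩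
    rw [← Finset.sum_fiberwise_of_maps_to h3]
    refine Finset.sum_congr rfl fun x hx => ?_
    rw [Finset.mem_filter] at hx
    have h4 : ∀ p ∈ Finset.univ.filter (fun p : H × K => (p.1 : G) * y * p.2 = x), F ((p.1 : G) * y * p.2) = F x := by
      intro p hp
      rw [(Finset.mem_filter.1 hp).2]
    rw [Finset.sum_congr rfl h4, Finset.sum_const, card_fiber H K y x hx.2, nsmul_eq_mul]
  rw [← Finset.mul_sum] at h2
  rw [h1] at h2
  have h5 : ∑ x ∈ Finset.univ.filter (DK H K y), F x =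
      (Fintype.card (ds H K y) : ℂ)⁻¹ * ((Nat.card H : ℂ) * (Nat.card K : ℂ) * F y) := by
    rw [h2, inv_mul_cancel_left₀ hd]
  rw [h5]
  ring

/-- **Mackey's formula** on representatives. -/
theorem classInner_ind_eq_sum [Fintype G] (H K : Subgroup G) [Fintype H] [Fintype K] {α : H → ℂ} {β : K → ℂ}
    (hα : IsClassFunction H α) (hβ : IsClassFunction K β) {ι : Type*} [Fintype ι] (r : ι → G)
    (hdis : ∀ i j, DK H K (r i) (r j) → i = j)
    (h0 : ∀ x, (∀ i, ¬ DK H K (r i) x) → tw H K α β x = 0) [∀ i, Fintype (ds H K (r i))] :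
    classInner (indFun H α) (indFun K β) =
      ∑ i, (Fintype.card (ds H K (r i)) : ℂ)⁻¹ * tw H K α β (r i) := by
  classical
  rw [classInner_ind]
  have hH : (Nat.card H : ℂ) ≠ 0 := card_ne_zero'
  have hK : (Nat.card K : ℂ) ≠ 0 := card_ne_zero'
  have h1 : ∑ x : G, tw H K α β x = ∑ i, ∑ x ∈ Finset.univ.filter (DK H K (r i)), tw H K α β x := by
    rw [← Finset.sum_biUnion]
    · symm
      refine Finset.sum_subset (Finset.subset_univ _) fun x _ hx => ?_
      apply h0
      intro i hi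
      apply hx
      rw [Finset.mem_biUnion]
      exact ⟨i, Finset.mem_univ _, Finset.mem_filter.2 ⟨Finset.mem_univ _, hi⟩⟩
    · intro i _ j _ hij
      rw [Function.onFun, Finset.disjoint_left]
      intro x hxi hxj
      apply hij
      rw [Finset.mem_filter] at hxi hxj
      obtain ⟨a, ha, b, hb, e⟩ := hxi.2
      obtain ⟨c, hc, d, hd, e2⟩ := hxj.2
      apply hdis
      refine ⟨c⁻¹ * a, mul_mem (inv_mem hc) ha, b * d⁻¹, mul_mem hb (inv_mem hd), ?_⟩
      have e3 : r j = c⁻¹ * x * d⁻¹ := by rw [e2]; group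
      rw [e3, e]
      group
  have h2 : ∀ i, ∑ x ∈ Finset.univ.filter (DK H K (r i)), tw H K α β x =
      (Nat.card H : ℂ) * (Nat.card K : ℂ) * ((Fintype.card (ds H K (r i)) : ℂ)⁻¹ * tw H K α β (r i)) := by
    intro i
    refine sum_double_coset H K (r i) _ ?_
    rintro x ⟨a, ha, b, hb, rfl⟩
    exact tw_mul H K hα hβ ha hb _
  rw [h1, Finset.sum_congr rfl fun i _ => h2 i, ← Finset.mul_sum]
  field_simp

/-- The Mackey term as an inner product. -/
theorem tw_eq_classInner [Finite G] (H K : Subgroup G) [Fintype H] (α : H → ℂ) (β : K → ℂ) (x : G)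
    [Fintype (ds H K x)] :
    (Fintype.card (ds H K x) : ℂ)⁻¹ * tw H K α β x = classInner (α ∘ (ds H K x).subtype) (β ∘ dh H K x) := by
  classical
  rw [classInner_apply, Nat.card_eq_fintype_card, tw_def, sum_eq_sum_subgroup (ds H K x)]
  · congr 1
    refine Finset.sum_congr rfl fun d _ => ?_
    rw [ext_apply_mem K β _ ((mem_ds H K x d).1 d.2)]
    rfl
  · intro t ht
    rw [mem_ds] at ht
    rw [ext_apply_not_mem K β _ ht, map_zero, mul_zero]

/-- **The Mackey term of `x` vanishes** if the two characters are orthogonal on a group mapping to `H ∩ x K x⁻¹`. -/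
theorem tw_eq_zero_of_hom [Finite G] (H K : Subgroup G) [Fintype H] {α : H → ℂ} {β : K → ℂ} (hα : IsCharacter H α)
    (hβ : IsCharacter K β) (x : G) {L : Type*} [Group L] [Fintype L] (f : L →* G) (hf : ∀ l, f l ∈ H)
    (hf' : ∀ l, x⁻¹ * f l * x ∈ K)
    (h0 : ∑ l : L, α ⟨f l, hf l⟩ * conj (β ⟨x⁻¹ * f l * x, hf' l⟩) = 0) : tw H K α β x = 0 := by
  classical
  have : Fintype (ds H K x) := Fintype.ofFinite _
  have hα' : IsCharacter (ds H K x) (α ∘ (ds H K x).subtype) := Core.isCharacter_comp _ hα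
  have hβ' : IsCharacter (ds H K x) (β ∘ dh H K x) := Core.isCharacter_comp _ hβ
  have h1 : classInner (α ∘ (ds H K x).subtype) (β ∘ dh H K x) = 0 := by
    let F : L →* ds H K x :=
      { toFun := fun l => ⟨⟨f l, hf l⟩, (mem_ds H K x _).2 (hf' l)⟩
        map_one' := by
          apply Subtype.ext
          apply Subtype.ext
          exact map_one f
        map_mul' := fun a b => by
          apply Subtype.ext
          apply Subtype.ext
          exact map_mul f a b }
    refine H53.HC.classInner_eq_zero_of_comp F hα' hβ' ?_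
    rw [Core.classInner_def]
    rw [show (∑ l : L, ((α ∘ (ds H K x).subtype) ∘ F) l * conj (((β ∘ dh H K x) ∘ F) l)) = 0 from h0, mul_zero]
  rw [← tw_eq_classInner] at h1
  rcases mul_eq_zero.1 h1 with h | h
  · have : 0 < Fintype.card (ds H K x) := Fintype.card_pos
    exact absurd h (inv_ne_zero (by exact_mod_cast this.ne'))
  · exact h

end Cfsg.Agent.H45.GG
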